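import Mathlib

/-!
# Eventually polynomial functions with values in an abelian group
-/

set_option autoImplicit false

namespace Groth.Agent.GrK0Poly

variable {G : Type*} [AddCommGroup G]

/-- `f` has eventually vanishing `r`-th differences. -/
def IsPolyFn : ℕ → (ℕ → G) → Prop
  | 0, f => ∃ N, ∀ n, N ≤ n → f n = 0
  | r + 1, f => IsPolyFn r (fun n => f (n + 1) - f n)

theorem IsPolyFn.add : ∀ {r : ℕ} {f g : ℕ → G}, IsPolyFn r f → IsPolyFn r g → IsPolyFn r (fun n => f n + g n)
  | 0, _, _, ⟨N, hN⟩, ⟨N', hN'⟩ => ⟨max N N', fun n hn => by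
      simp only
      rw [hN n (le_trans (le_max_left _ _) hn), hN' n (le_trans (le_max_right _ _) hn), add_zero]⟩
  | r + 1, f, g, hf, hg => by
      have h := IsPolyFn.add (r := r) hf hg
      show IsPolyFn r _
      convert h using 2 with n
      dsimp only
      abel

theorem IsPolyFn.neg : ∀ {r : ℕ} {f : ℕ → G}, IsPolyFn r f → IsPolyFn r (fun n => - f n)
  | 0, _, ⟨N, hN⟩ => ⟨N, fun n hn => by simp only [hN n hn, neg_zero]⟩
  | r + 1, f, hf => by
      have h := IsPolyFn.neg (r := r) hf
      show IsPolyFn r _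
      convert h using 2 with n
      dsimp only
      abel

theorem IsPolyFn.shift : ∀ {r : ℕ} {f : ℕ → G}, IsPolyFn r f → IsPolyFn r (fun n => f (n + 1))
  | 0, _, ⟨N, hN⟩ => ⟨N, fun n hn => hN (n + 1) (Nat.le_succ_of_le hn)⟩
  | r + 1, f, hf => IsPolyFn.shift (r := r) hf

theorem IsPolyFn.succ : ∀ {r : ℕ} {f : ℕ → G}, IsPolyFn r f → IsPolyFn (r + 1) f
  | 0, f, ⟨N, hN⟩ => ⟨N, fun n hn => by simp only [hN n hn, hN (n + 1) (Nat.le_succ_of_le hn), sub_zero]⟩
  | r + 1, f, hf => IsPolyFn.succ (r := r) hf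

theorem IsPolyFn.mono {r r' : ℕ} (h : r ≤ r') {f : ℕ → G} (hf : IsPolyFn r f) : IsPolyFn r' f := by
  induction h with
  | refl => exact hf
  | step _ ih => exact ih.succ

theorem IsPolyFn.congr : ∀ {r : ℕ} {f g : ℕ → G}, IsPolyFn r f → (∀ n, g n = f n) → IsPolyFn r g := by
  intro r f g hf h
  rwa [show g = f from funext h]

/-- The binomial expansion. -/
theorem IsPolyFn.eq_sum : ∀ {r : ℕ} {f : ℕ → G}, IsPolyFn r f →
    ∃ (a : ℕ → G) (N : ℕ), ∀ n, N ≤ n → f n = ∑ i ∈ Finset.range r, ((n.choose i : ℕ) : ℤ) • a i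
  | 0, f, ⟨N, hN⟩ => ⟨0, N, fun n hn => by simp [hN n hn]⟩
  | r + 1, f, hf => by
      obtain ⟨a, N, ha⟩ := IsPolyFn.eq_sum (r := r) hf
      let g : ℕ → G := fun n => f n - ∑ i ∈ Finset.range r, ((n.choose (i + 1) : ℕ) : ℤ) • a i
      have hg : ∀ n, N ≤ n → g n = g N := fun n hn => by
        induction n, hn using Nat.le_induction with
        | base => rfl
        | succ k hk ih =>
          rw [← ih]
          have h := ha k hk
          simp only [g]
          have e : ∀ i, (((k + 1).choose (i + 1) : ℕ) : ℤ) • a i =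
              ((k.choose (i + 1) : ℕ) : ℤ) • a i + ((k.choose i : ℕ) : ℤ) • a i := fun i => by
            rw [← add_smul, Nat.choose_succ_succ']
            push_cast
            rw [add_comm]
          simp only [e, Finset.sum_add_distrib]
          rw [← h]
          abel
      refine ⟨fun i => if i = 0 then g N else a (i - 1), N, fun n hn => ?_⟩
      rw [Finset.sum_range_succ']
      simp only [Nat.add_sub_cancel, Nat.add_eq_zero_iff, one_ne_zero, and_false, if_false, Nat.choose_zero_right,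
        Nat.cast_one, one_smul, if_true]
      rw [← hg n hn]
      simp only [g]
      abel

end Groth.Agent.GrK0Poly
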