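import Mathlib

/-!
# Homogeneous submodules of a graded module over an algebra generated in degree one
-/

set_option autoImplicit false

universe u

namespace Groth.Agent.GrK0Poly

open DirectSum

variable {A S M : Type u} [CommRing A] [CommRing S] [Algebra A S] [AddCommGroup M] [Module A M] [Module S M]
  [IsScalarTower A S M] (𝒜 : ℕ → Submodule A S) [GradedAlgebra 𝒜]
  (ℳ : ℕ → Submodule A M) [DirectSum.Decomposition ℳ] [SetLike.GradedSMul 𝒜 ℳ]

/-- The `n`-th component. -/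
noncomputable def comp (n : ℕ) : M →ₗ[A] M :=
  (ℳ n).subtype.comp ((DFinsupp.lapply n).comp (DirectSum.decomposeLinearEquiv ℳ).toLinearMap)

theorem comp_apply (n : ℕ) (m : M) : comp ℳ n m = (decompose ℳ m n : M) := rfl

theorem comp_mem (n : ℕ) (m : M) : comp ℳ n m ∈ ℳ n := SetLike.coe_mem _

theorem comp_of_mem {n : ℕ} {m : M} (h : m ∈ ℳ n) : comp ℳ n m = m := decompose_of_mem_same ℳ h

theorem comp_of_ne {n d : ℕ} {m : M} (h : m ∈ ℳ d) (hne : d ≠ n) : comp ℳ n m = 0 :=
  decompose_of_mem_ne ℳ h hne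

theorem smul_mem' {d e : ℕ} {s : S} {m : M} (hs : s ∈ 𝒜 e) (hm : m ∈ ℳ d) : s • m ∈ ℳ (e + d) := by
  simpa [vadd_eq_add] using SetLike.GradedSMul.smul_mem (A := 𝒜) (B := ℳ) hs hm

include 𝒜 in
theorem comp_smul {d : ℕ} {g : M} (hg : g ∈ ℳ d) (s : S) (n : ℕ) :
    comp ℳ n (s • g) = if d ≤ n then (decompose 𝒜 s (n - d) : S) • g else 0 := by
  classical
  conv_lhs => rw [← DirectSum.sum_support_decompose 𝒜 s, Finset.sum_smul, map_sum]
  split_ifs with h
  · rw [Finset.sum_eq_single (n - d)]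
    · exact comp_of_mem ℳ (by simpa [Nat.sub_add_cancel h] using smul_mem' 𝒜 ℳ (SetLike.coe_mem (decompose 𝒜 s (n - d))) hg)
    · intro e _ he
      exact comp_of_ne ℳ (smul_mem' 𝒜 ℳ (SetLike.coe_mem _) hg) (by omega)
    · intro he
      rw [DFinsupp.notMem_support_iff.1 he]
      simp
  · exact Finset.sum_eq_zero fun e _ => comp_of_ne ℳ (smul_mem' 𝒜 ℳ (SetLike.coe_mem _) hg) (by omega)

variable (S) in
/-- An `S`-submodule stable under taking components. -/
def IsHom (Q : Submodule S M) : Prop := ∀ y ∈ Q, ∀ n, comp ℳ n y ∈ Q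

/-- The degree `n` part. -/
def part (n : ℕ) (Q : Submodule S M) : Submodule A M := Q.restrictScalars A ⊓ ℳ n

theorem mem_part {n : ℕ} {Q : Submodule S M} {y : M} : y ∈ part ℳ n Q ↔ y ∈ Q ∧ y ∈ ℳ n := Iff.rfl

theorem exists_homogeneous_gens (Q : Submodule S M) (hQ : IsHom S ℳ Q) (hfg : Q.FG) :
    ∃ T : Finset (ℕ × M), (∀ t ∈ T, t.2 ∈ ℳ t.1 ∧ t.2 ∈ Q) ∧ Q = Submodule.span S (Prod.snd '' (T : Set (ℕ × M))) := by
  classical
  obtain ⟨G, hG⟩ := hfg
  have hGQ : ∀ y ∈ G, y ∈ Q := fun y hy => hG ▸ Submodule.subset_span hy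
  refine ⟨G.biUnion fun y => (decompose ℳ y).support.image fun n => (n, comp ℳ n y), fun t ht => ?_, ?_⟩
  · simp only [Finset.mem_biUnion, Finset.mem_image] at ht
    obtain ⟨y, hy, n, -, rfl⟩ := ht
    exact ⟨comp_mem ℳ n y, hQ y (hGQ y hy) n⟩
  · apply le_antisymm
    · conv_lhs => rw [← hG]
      refine Submodule.span_le.2 fun y hy => ?_
      rw [SetLike.mem_coe, ← DirectSum.sum_support_decompose ℳ y]
      refine sum_mem fun n hn => Submodule.subset_span ⟨(n, comp ℳ n y), ?_, rfl⟩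
      simp only [Finset.mem_coe, Finset.mem_biUnion, Finset.mem_image]
      exact ⟨y, hy, n, hn, rfl⟩
    · refine Submodule.span_le.2 ?_
      rintro _ ⟨t, ht, rfl⟩
      simp only [Finset.mem_coe, Finset.mem_biUnion, Finset.mem_image] at ht
      obtain ⟨y, hy, n, -, rfl⟩ := ht
      exact hQ y (hGQ y hy) n

variable {m : ℕ} (x : Fin m → S)

/-- Multiplication by `x j` as an `A`-linear map. -/
def mulX (j : Fin m) : M →ₗ[A] M :=
  { toFun := fun y => x j • y
    map_add' := fun _ _ => smul_add _ _ _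
    map_smul' := fun a y => smul_comm (x j) a y }

theorem mulX_apply (j : Fin m) (y : M) : mulX (A := A) x j y = x j • y := rfl

variable (h0 : ∀ s ∈ 𝒜 0, s ∈ Set.range (algebraMap A S)) (hx : ∀ j, x j ∈ 𝒜 1)
  (hirr : (HomogeneousIdeal.irrelevant 𝒜).toIdeal = Ideal.span (Set.range x))

include h0 in
theorem part_zero_le (Q : Submodule S M) (T : Finset (ℕ × M)) (hT : ∀ t ∈ T, t.2 ∈ ℳ t.1 ∧ t.2 ∈ Q)
    (hQT : Q = Submodule.span S (Prod.snd '' (T : Set (ℕ × M)))) :
    part ℳ 0 Q ≤ Submodule.span A {g | (0, g) ∈ T} := by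
  rintro y ⟨hyQ, hy⟩
  have key : ∀ z ∈ Submodule.span S (Prod.snd '' (T : Set (ℕ × M))), ∀ s : S,
      comp ℳ 0 (s • z) ∈ Submodule.span A {g | (0, g) ∈ T} := by
    intro z hz
    induction hz using Submodule.span_induction with
    | mem z hz =>
      obtain ⟨⟨d, g⟩, ht, rfl⟩ := hz
      intro s
      rw [comp_smul 𝒜 ℳ (hT _ ht).1]
      split_ifs with hd
      · obtain rfl : d = 0 := Nat.le_zero.1 hd
        obtain ⟨a, ha⟩ := h0 _ (SetLike.coe_mem (decompose 𝒜 s 0))
        rw [Nat.sub_zero, ← ha, algebraMap_smul]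
        exact Submodule.smul_mem _ a (Submodule.subset_span ht)
      · exact zero_mem _
    | zero => intro s; simp
    | add a b _ _ ha hb => intro s; rw [smul_add, map_add]; exact add_mem (ha s) (hb s)
    | smul r z _ hz => intro s; rw [smul_smul]; exact hz _
  have := key y (hQT ▸ hyQ) 1
  rwa [one_smul, comp_of_mem ℳ hy] at this

include h0 hx hirr in
theorem part_succ_le (Q : Submodule S M) (T : Finset (ℕ × M)) (hT : ∀ t ∈ T, t.2 ∈ ℳ t.1 ∧ t.2 ∈ Q)
    (hQT : Q = Submodule.span S (Prod.snd '' (T : Set (ℕ × M)))) (n : ℕ) :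
    part ℳ (n + 1) Q ≤ Submodule.span A {g | (n + 1, g) ∈ T} ⊔ ⨆ j, (part ℳ n Q).map (mulX x j) := by
  classical
  rintro y ⟨hyQ, hy⟩
  have key : ∀ z ∈ Submodule.span S (Prod.snd '' (T : Set (ℕ × M))), ∀ s : S,
      comp ℳ (n + 1) (s • z) ∈ Submodule.span A {g | (n + 1, g) ∈ T} ⊔ ⨆ j, (part ℳ n Q).map (mulX x j) := by
    intro z hz
    induction hz using Submodule.span_induction with
    | mem z hz =>
      obtain ⟨⟨d, g⟩, ht, rfl⟩ := hz
      intro s
      rw [comp_smul 𝒜 ℳ (hT _ ht).1]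
      split_ifs with hd
      · rcases Nat.eq_or_lt_of_le hd with hd' | hd'
        · simp only at hd'
          subst hd'
          obtain ⟨a, ha⟩ := h0 _ (SetLike.coe_mem (decompose 𝒜 s 0))
          rw [Nat.sub_self, ← ha, algebraMap_smul]
          exact Submodule.mem_sup_left (Submodule.smul_mem _ a (Submodule.subset_span ht))
        · simp only at hd' ⊢
          obtain ⟨e, he⟩ : ∃ e, n + 1 - d = e + 1 := ⟨n - d, by omega⟩
          set c := (decompose 𝒜 s (n + 1 - d) : S) with hc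
          have hcm : c ∈ 𝒜 (e + 1) := he ▸ SetLike.coe_mem _
          have hcS : c ∈ (HomogeneousIdeal.irrelevant 𝒜).toIdeal := by
            show GradedRing.proj 𝒜 0 c = 0
            rw [GradedRing.proj_apply]
            exact decompose_of_mem_ne 𝒜 hcm (Nat.succ_ne_zero e)
          rw [hirr] at hcS
          obtain ⟨b, hb⟩ := (Submodule.mem_span_range_iff_exists_fun S).1 hcS
          have hce : c = ∑ j, (decompose 𝒜 (b j) e : S) * x j := by
            conv_lhs => rw [← decompose_of_mem_same 𝒜 hcm, ← hb, decompose_sum, DFinsupp.finset_sum_apply,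
              AddSubmonoidClass.coe_finsetSum]
            exact Finset.sum_congr rfl fun j _ => by
              rw [smul_eq_mul, coe_decompose_mul_of_right_mem_of_le 𝒜 (hx j) (Nat.succ_le_succ (Nat.zero_le e))]
              rfl
          rw [hce, Finset.sum_smul]
          refine Submodule.mem_sup_right (sum_mem fun j _ => Submodule.mem_iSup_of_mem j ?_)
          refine ⟨(decompose 𝒜 (b j) e : S) • g, ⟨Q.smul_mem _ (hT _ ht).2, ?_⟩, ?_⟩
          · have := smul_mem' 𝒜 ℳ (SetLike.coe_mem (decompose 𝒜 (b j) e)) (hT _ ht).1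
            rwa [show e + d = n by omega] at this
          · rw [mulX_apply, smul_smul, mul_comm]
      · exact zero_mem _
    | zero => intro s; simp
    | add a b _ _ ha hb => intro s; rw [smul_add, map_add]; exact add_mem (ha s) (hb s)
    | smul r z _ hz => intro s; rw [smul_smul]; exact hz _
  have := key y (hQT ▸ hyQ) 1
  rwa [one_smul, comp_of_mem ℳ hy] at this

include h0 hx hirr in
theorem part_fg (Q : Submodule S M) (hQ : IsHom S ℳ Q) (hfg : Q.FG) (n : ℕ) : (part ℳ n Q).FG := by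
  classical
  obtain ⟨T, hT, hQT⟩ := exists_homogeneous_gens ℳ Q hQ hfg
  have hfin : ∀ d : ℕ, (Submodule.span A {g | (d, g) ∈ T}).FG := fun d =>
    Submodule.fg_span ((T.image Prod.snd).finite_toSet.subset fun g hg => by
      simp only [Finset.coe_image, Set.mem_image, Finset.mem_coe]
      exact ⟨(d, g), hg, rfl⟩)
  induction n with
  | zero =>
    have : part ℳ 0 Q = Submodule.span A {g | (0, g) ∈ T} := le_antisymm (part_zero_le 𝒜 ℳ h0 Q T hT hQT)
      (Submodule.span_le.2 fun g hg => ⟨(hT _ hg).2, (hT _ hg).1⟩)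
    rw [this]
    exact hfin 0
  | succ n ih =>
    have : part ℳ (n + 1) Q = Submodule.span A {g | (n + 1, g) ∈ T} ⊔ ⨆ j, (part ℳ n Q).map (mulX x j) := by
      refine le_antisymm (part_succ_le 𝒜 ℳ x h0 hx hirr Q T hT hQT n) (sup_le
        (Submodule.span_le.2 fun g hg => ⟨(hT _ hg).2, (hT _ hg).1⟩) (iSup_le fun j => ?_))
      rintro _ ⟨y, hy, rfl⟩
      refine ⟨Q.smul_mem _ hy.1, ?_⟩
      rw [mulX_apply, add_comm]
      exact smul_mem' 𝒜 ℳ (hx j) hy.2
    rw [this]
    exact Submodule.FG.sup (hfin _) (Submodule.fg_iSup _ fun j => ih.map _)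

include h0 hx hirr in
theorem exists_part_le (Q : Submodule S M) (hQ : IsHom S ℳ Q) (hfg : Q.FG) :
    ∃ D, ∀ n, D ≤ n → part ℳ (n + 1) Q ≤ ⨆ j, (part ℳ n Q).map (mulX x j) := by
  classical
  obtain ⟨T, hT, hQT⟩ := exists_homogeneous_gens ℳ Q hQ hfg
  refine ⟨T.sup Prod.fst, fun n hn => le_trans (part_succ_le 𝒜 ℳ x h0 hx hirr Q T hT hQT n) (sup_le ?_ le_rfl)⟩
  refine Submodule.span_le.2 fun g hg => ?_
  have : n + 1 ≤ T.sup Prod.fst := Finset.le_sup (f := Prod.fst) hg
  omega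

end Groth.Agent.GrK0Poly
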