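import Groth.Prelude.Def_KZero
import Groth.Agent.GrK0Poly.Diff
import Groth.Agent.GrK0Poly.Graded
import Mathlib

/-!
# The class of a graded piece in `K₀` is a numerical polynomial
-/

set_option autoImplicit false

universe u

open CategoryTheory

namespace Groth.Agent.GrK0Poly

variable {A : Type u} [CommRing A]

/-- Additivity on short exact sequences of finite modules. -/
theorem clSub_add {X Y Z : Type u} [AddCommGroup X] [Module A X] [AddCommGroup Y] [Module A Y]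
    [AddCommGroup Z] [Module A Z] [Module.Finite A X] [Module.Finite A Y] [Module.Finite A Z]
    (i : X →ₗ[A] Y) (p : Y →ₗ[A] Z) (hi : Function.Injective i) (hp : Function.Surjective p)
    (he : Function.Exact i p) :
    KZero.clSub (fun X : ModuleCat.{u} A => Module.Finite A X) (ModuleCat.of A Y) =
      KZero.clSub (fun X : ModuleCat.{u} A => Module.Finite A X) (ModuleCat.of A X) +
        KZero.clSub (fun X : ModuleCat.{u} A => Module.Finite A X) (ModuleCat.of A Z) := by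
  let T : ShortComplex (ModuleCat.{u} A) := ShortComplex.mk (ModuleCat.ofHom i) (ModuleCat.ofHom p)
    (by ext a; exact he.apply_apply_eq_zero a)
  haveI : Mono T.f := (ModuleCat.mono_iff_injective _).2 hi
  haveI : Epi T.g := (ModuleCat.epi_iff_surjective _).2 hp
  have hT : T.ShortExact :=
    { exact := (ShortComplex.moduleCat_exact_iff T).2 fun a ha => (he a).1 ha }
  simp only [KZero.clSub]
  rw [dif_pos (‹Module.Finite A Y›), dif_pos (‹Module.Finite A X›), dif_pos (‹Module.Finite A Z›),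
    ← QuotientAddGroup.mk_add, QuotientAddGroup.eq, ← neg_mem_iff]
  refine AddSubgroup.subset_closure ⟨T, ‹Module.Finite A X›, ‹Module.Finite A Y›, ‹Module.Finite A Z›, hT, ?_⟩
  simp only [T]
  abel

variable {M : Type u} [AddCommGroup M] [Module A M]

/-- The class of a submodule. -/
noncomputable def chi (Y : Submodule A M) : KZero.K0sub (fun X : ModuleCat.{u} A => Module.Finite A X) :=
  KZero.clSub (fun X : ModuleCat.{u} A => Module.Finite A X) (ModuleCat.of A Y)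

/-- The second isomorphism theorem on classes. -/
theorem chi_sub_chi (φ : M →ₗ[A] M) (X Y Z K : Submodule A M) (hX : X.FG) (hY : Y.FG) (hZ : Z.FG)
    (hK : K.FG) (hKeq : Y ⊓ X.comap φ = K) (hZeq : Y.map φ ⊔ X = Z) :
    chi Y - chi K = chi Z - chi X := by
  have hXZ : X ≤ Z := hZeq ▸ le_sup_right
  have hKY : K ≤ Y := hKeq ▸ inf_le_left
  have hmap : ∀ y ∈ Y, φ y ∈ Z := fun y hy => hZeq ▸ Submodule.mem_sup_left ⟨y, hy, rfl⟩
  haveI := Module.Finite.iff_fg.2 hX
  haveI := Module.Finite.iff_fg.2 hY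
  haveI := Module.Finite.iff_fg.2 hZ
  haveI := Module.Finite.iff_fg.2 hK
  let Q := (↥Z) ⧸ X.comap Z.subtype
  let p₁ : Y →ₗ[A] Q := (X.comap Z.subtype).mkQ.comp (φ.restrict hmap)
  have hp₁ : Function.Surjective p₁ := by
    intro q
    obtain ⟨⟨z, hz⟩, rfl⟩ := Submodule.mkQ_surjective _ q
    rw [← hZeq] at hz
    obtain ⟨_, ⟨y, hy, rfl⟩, w, hw, rfl⟩ := Submodule.mem_sup.1 hz
    refine ⟨⟨y, hy⟩, ?_⟩
    show Submodule.Quotient.mk _ = Submodule.Quotient.mk _
    rw [Submodule.Quotient.eq]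
    show φ y - (φ y + w) ∈ X
    simpa using hw
  have e1 : Function.Exact (Submodule.inclusion hKY) p₁ := fun y => by
    show Submodule.Quotient.mk _ = 0 ↔ _
    rw [Submodule.Quotient.mk_eq_zero]
    constructor
    · intro h
      exact ⟨⟨y.1, hKeq ▸ ⟨y.2, h⟩⟩, rfl⟩
    · rintro ⟨z, rfl⟩
      exact (show z.1 ∈ Y ⊓ X.comap φ from hKeq.symm ▸ z.2).2
  have e2 : Function.Exact (Submodule.inclusion hXZ) (X.comap Z.subtype).mkQ := fun z => by
    rw [Submodule.mkQ_apply, Submodule.Quotient.mk_eq_zero]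
    constructor
    · intro h; exact ⟨⟨z.1, h⟩, rfl⟩
    · rintro ⟨w, rfl⟩; exact w.2
  have h1 := clSub_add (Submodule.inclusion hKY) p₁ (Submodule.inclusion_injective _) hp₁ e1
  have h2 := clSub_add (Submodule.inclusion hXZ) (X.comap Z.subtype).mkQ (Submodule.inclusion_injective _)
    (Submodule.mkQ_surjective _) e2
  show chi Y - chi K = chi Z - chi X
  rw [chi, chi, chi, chi, h1, h2]
  abel

variable {S : Type u} [CommRing S] [Algebra A S] [Module S M] [IsScalarTower A S M]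
  (𝒜 : ℕ → Submodule A S) [GradedAlgebra 𝒜]
  (ℳ : ℕ → Submodule A M) [DirectSum.Decomposition ℳ] [SetLike.GradedSMul 𝒜 ℳ]
  {m : ℕ} (x : Fin m → S)
  (h0 : ∀ s ∈ 𝒜 0, s ∈ Set.range (algebraMap A S)) (hx : ∀ j, x j ∈ 𝒜 1)
  (hirr : (HomogeneousIdeal.irrelevant 𝒜).toIdeal = Ideal.span (Set.range x))

/-- `x j • Q`. -/
def xMul (j : Fin m) (Q : Submodule S M) : Submodule S M := Q.map (x j • LinearMap.id)

/-- `{y | x j • y ∈ P}`. -/
def xDiv (j : Fin m) (P : Submodule S M) : Submodule S M := P.comap (x j • LinearMap.id)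

include 𝒜 hx in
theorem comp_x_smul (j : Fin m) (y : M) (n : ℕ) :
    comp ℳ (n + 1) (x j • y) = x j • comp ℳ n y ∧ comp ℳ 0 (x j • y) = 0 := by
  classical
  constructor
  · conv_lhs => rw [← DirectSum.sum_support_decompose ℳ y, Finset.smul_sum, map_sum]
    rw [Finset.sum_eq_single n]
    · rw [comp_of_mem]
      · rfl
      · rw [add_comm]; exact smul_mem' 𝒜 ℳ (hx j) (SetLike.coe_mem _)
    · intro e _ he
      exact comp_of_ne ℳ (smul_mem' 𝒜 ℳ (hx j) (SetLike.coe_mem _)) (by omega)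
    · intro he
      rw [DFinsupp.notMem_support_iff.1 he]
      simp
  · conv_lhs => rw [← DirectSum.sum_support_decompose ℳ y, Finset.smul_sum, map_sum]
    exact Finset.sum_eq_zero fun e _ => comp_of_ne ℳ (smul_mem' 𝒜 ℳ (hx j) (SetLike.coe_mem _)) (by omega)

include 𝒜 hx in
theorem isHom_xMul_sup (j : Fin m) {P Q : Submodule S M} (hP : IsHom S ℳ P) (hQ : IsHom S ℳ Q) :
    IsHom S ℳ (xMul x j Q ⊔ P) := by
  intro y hy n
  obtain ⟨_, ⟨q, hq, rfl⟩, p, hp, rfl⟩ := Submodule.mem_sup.1 hy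
  rw [map_add]
  refine add_mem ?_ (Submodule.mem_sup_right (hP p hp n))
  refine Submodule.mem_sup_left ?_
  show comp ℳ n (x j • q) ∈ xMul x j Q
  cases n with
  | zero => rw [(comp_x_smul 𝒜 ℳ x hx j q 0).2]; exact zero_mem _
  | succ k => rw [(comp_x_smul 𝒜 ℳ x hx j q k).1]; exact ⟨comp ℳ k q, hQ q hq k, rfl⟩

include 𝒜 hx in
theorem isHom_inf_xDiv (j : Fin m) {P Q : Submodule S M} (hP : IsHom S ℳ P) (hQ : IsHom S ℳ Q) :
    IsHom S ℳ (Q ⊓ xDiv x j P) := by
  rintro y ⟨hy, hy'⟩ n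
  refine ⟨hQ y hy n, ?_⟩
  show x j • comp ℳ n y ∈ P
  rw [← (comp_x_smul 𝒜 ℳ x hx j y n).1]
  exact hP _ hy' _

variable [IsNoetherianRing S] [Module.Finite S M]

include h0 hx hirr in
theorem part_fg' (Q : Submodule S M) (hQ : IsHom S ℳ Q) (n : ℕ) : (part ℳ n Q).FG :=
  part_fg 𝒜 ℳ x h0 hx hirr Q hQ (IsNoetherian.noetherian Q) n

include h0 hx hirr in
theorem isPolyFn_main : ∀ (t : ℕ) (P Q : Submodule S M), IsHom S ℳ P → IsHom S ℳ Q → P ≤ Q →
    (∀ j : Fin m, t ≤ j.val → ∀ y ∈ Q, x j • y ∈ P) →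
    IsPolyFn t (fun n => chi (part ℳ n Q) - chi (part ℳ n P)) := by
  intro t
  induction t with
  | zero =>
    intro P Q hP hQ hPQ hkill
    obtain ⟨D, hD⟩ := exists_part_le 𝒜 ℳ x h0 hx hirr Q hQ (IsNoetherian.noetherian Q)
    refine ⟨D + 1, fun n hn => ?_⟩
    obtain ⟨k, rfl⟩ : ∃ k, n = k + 1 := ⟨n - 1, by omega⟩
    have : part ℳ (k + 1) Q = part ℳ (k + 1) P := by
      refine le_antisymm (fun y hy => ?_) (fun y hy => ⟨hPQ hy.1, hy.2⟩)
      refine ⟨?_, hy.2⟩
      have hy' := hD k (by omega) hy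
      refine Submodule.iSup_induction _ (motive := fun z => z ∈ P) hy' ?_ (zero_mem _) fun _ _ => add_mem
      rintro j _ ⟨z, hz, rfl⟩
      exact hkill j (Nat.zero_le _) z hz.1
    simp only [this, sub_self]
  | succ t ih =>
    intro P Q hP hQ hPQ hkill
    by_cases ht : t < m
    swap
    · exact (ih P Q hP hQ hPQ fun j hj => absurd j.isLt (by omega)).succ
    let j : Fin m := ⟨t, ht⟩
    let K := Q ⊓ xDiv x j P
    let Z := xMul x j Q ⊔ P
    have hK : IsHom S ℳ K := isHom_inf_xDiv 𝒜 ℳ x hx j hP hQ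
    have hZ : IsHom S ℳ Z := isHom_xMul_sup 𝒜 ℳ x hx j hP hQ
    have hPK : P ≤ K := le_inf hPQ fun y hy => P.smul_mem _ hy
    have hZQ : Z ≤ Q := sup_le (by rintro _ ⟨y, hy, rfl⟩; exact Q.smul_mem _ hy) hPQ
    have h1 := ih P K hP hK hPK fun i hi y hy => by
      rcases Nat.eq_or_lt_of_le hi with he | hlt
      · obtain rfl : j = i := Fin.ext he
        exact hy.2
      · exact hkill i hlt y hy.1
    have h2 := ih Z Q hZ hQ hZQ fun i hi y hy => by
      rcases Nat.eq_or_lt_of_le hi with he | hlt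
      · obtain rfl : j = i := Fin.ext he
        exact Submodule.mem_sup_left ⟨y, hy, rfl⟩
      · exact Submodule.mem_sup_right (hkill i hlt y hy)
    show IsPolyFn t _
    refine (h2.shift.add h1.neg).congr fun n => ?_
    have hd := chi_sub_chi (mulX x j) (part ℳ (n + 1) P) (part ℳ n Q) (part ℳ (n + 1) Z) (part ℳ n K)
      (part_fg' 𝒜 ℳ x h0 hx hirr P hP _) (part_fg' 𝒜 ℳ x h0 hx hirr Q hQ _) (part_fg' 𝒜 ℳ x h0 hx hirr Z hZ _)
      (part_fg' 𝒜 ℳ x h0 hx hirr K hK _) ?_ ?_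
    · have e : chi (part ℳ (n + 1) Z) = chi (part ℳ n Q) - chi (part ℳ n K) + chi (part ℳ (n + 1) P) := by
        rw [hd]; abel
      simp only [e]; abel
    · apply le_antisymm
      · rintro y ⟨⟨hyQ, hy⟩, hy'⟩
        exact ⟨⟨hyQ, hy'.1⟩, hy⟩
      · rintro y ⟨⟨hyQ, hy'⟩, hy⟩
        refine ⟨⟨hyQ, hy⟩, hy', ?_⟩
        rw [mulX_apply, add_comm]
        exact smul_mem' 𝒜 ℳ (hx j) hy
    · apply le_antisymm
      · refine sup_le ?_ fun y hy => ⟨Submodule.mem_sup_right hy.1, hy.2⟩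
        rintro _ ⟨y, hy, rfl⟩
        refine ⟨Submodule.mem_sup_left ⟨y, hy.1, rfl⟩, ?_⟩
        rw [mulX_apply, add_comm]
        exact smul_mem' 𝒜 ℳ (hx j) hy.2
      · rintro z ⟨hzZ, hz⟩
        obtain ⟨_, ⟨q, hq, rfl⟩, p, hp, rfl⟩ := Submodule.mem_sup.1 hzZ
        rw [← comp_of_mem ℳ hz, map_add]
        refine Submodule.add_mem_sup ?_ ⟨hP p hp _, comp_mem ℳ _ p⟩
        refine ⟨comp ℳ n q, ⟨hQ q hq n, comp_mem ℳ n q⟩, ?_⟩
        exact (comp_x_smul 𝒜 ℳ x hx j q n).1.symm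

end Groth.Agent.GrK0Poly
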